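import Cfsg.Agent.Lib.BoundedPres.Basic

/-!
# Presentations on a named generating tuple
-/

set_option autoImplicit false

namespace Cfsg.Agent.BoundedPres.Short

universe u v

/-- `g` and at most `r` relators present `G`. -/
def Tup {G : Type u} [Group G] {k : ℕ} (g : Fin k → G) (r : ℕ) : Prop :=
  ∃ R : List (FreeGroup (Fin k)), R.length ≤ r ∧
    Subgroup.closure (Set.range g) = ⊤ ∧ (∀ w ∈ R, FreeGroup.lift g w = 1) ∧
    ∀ (Q : Type) [Group Q] (g' : Fin k → Q), (∀ w ∈ R, FreeGroup.lift g' w = 1) →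
      ∃ f : G →* Q, ∀ i, f (g i) = g' i

theorem Tup.of_card {G : Type u} [Group G] [Finite G] {k r : ℕ} {g : Fin k → G}
    {R : List (FreeGroup (Fin k))} (hR : R.length ≤ r) (hg : Subgroup.closure (Set.range g) = ⊤)
    (hrel : ∀ w ∈ R, FreeGroup.lift g w = 1)
    (hbound : ∀ (Q : Type) [Group Q] (g' : Fin k → Q), Subgroup.closure (Set.range g') = ⊤ →
      (∀ w ∈ R, FreeGroup.lift g' w = 1) → Finite Q ∧ Nat.card Q ≤ Nat.card G) : Tup g r := by
  refine ⟨R, hR, hg, hrel, fun Q _ g' hg' => ?_⟩
  set S : Set (FreeGroup (Fin k)) := {w | w ∈ R}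
  let π : PresentedGroup S →* G := PresentedGroup.toGroup (f := g) hrel
  have hπ : ∀ i, π (PresentedGroup.of i) = g i := fun i => PresentedGroup.toGroup.of _
  have hsurj : Function.Surjective π := by
    rw [← MonoidHom.range_eq_top, eq_top_iff, ← hg, Subgroup.closure_le]
    rintro _ ⟨i, rfl⟩
    exact ⟨_, hπ i⟩
  obtain ⟨hfin, hle⟩ := hbound (PresentedGroup S) PresentedGroup.of (PresentedGroup.closure_range_of _)
    (fun w hw => by
      have : FreeGroup.lift (PresentedGroup.of (rels := S)) = PresentedGroup.mk _ :=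
        FreeGroup.ext_hom _ _ fun a => by simp [PresentedGroup.of]
      rw [this]
      exact PresentedGroup.one_of_mem hw)
  have := hfin
  let e := MulEquiv.ofBijective π (hsurj.bijective_of_nat_card_le hle)
  have hσ : ∀ w ∈ S, FreeGroup.lift g' w = 1 := hg'
  refine ⟨(PresentedGroup.toGroup hσ).comp e.symm.toMonoidHom, fun i => ?_⟩
  have : e.symm (g i) = PresentedGroup.of i := by
    rw [MulEquiv.symm_apply_eq]
    exact (hπ i).symm
  simp [this]

theorem Tup.pres {G : Type u} [Group G] {k r : ℕ} {g : Fin k → G} (h : Tup g r) : Pres G r :=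
  let ⟨R, rest⟩ := h; ⟨k, g, R, rest⟩

theorem Tup.presented {G : Type u} [Group G] {k r : ℕ} {g : Fin k → G} (h : Tup g r) :
    ∃ rels : Finset (FreeGroup (Fin k)), rels.card ≤ r ∧
      Nonempty (PresentedGroup (↑rels : Set (FreeGroup (Fin k))) ≃* G) := by
  classical
  obtain ⟨R, hR, hg, hrel, huniv⟩ := h
  refine ⟨R.toFinset, (List.toFinset_card_le R).trans hR, ?_⟩
  have hrel' : ∀ w ∈ (↑R.toFinset : Set (FreeGroup (Fin k))), FreeGroup.lift g w = 1 :=
    fun w hw => hrel w (by simpa using hw)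
  obtain ⟨f, hf⟩ := huniv (PresentedGroup (↑R.toFinset : Set (FreeGroup (Fin k)))) PresentedGroup.of
    (fun w hw => by
      have : FreeGroup.lift (PresentedGroup.of (rels := (↑R.toFinset : Set (FreeGroup (Fin k))))) =
          PresentedGroup.mk _ := FreeGroup.ext_hom _ _ fun a => by simp [PresentedGroup.of]
      rw [this]
      exact PresentedGroup.one_of_mem (by simpa using hw))
  let π := PresentedGroup.toGroup hrel'
  have h1 : f.comp π = MonoidHom.id _ := PresentedGroup.ext fun j => by
    rw [MonoidHom.comp_apply, PresentedGroup.toGroup.of, hf, MonoidHom.id_apply]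
  have h2 : π.comp f = MonoidHom.id _ := MonoidHom.eq_of_eqOn_dense hg (by
    rintro _ ⟨j, rfl⟩
    rw [MonoidHom.comp_apply, hf, PresentedGroup.toGroup.of, MonoidHom.id_apply])
  exact ⟨π.toMulEquiv f h1 h2⟩

theorem Tup.map {G : Type u} [Group G] {H : Type v} [Group H] {k r : ℕ} {g : Fin k → G}
    (h : Tup g r) (e : G ≃* H) : Tup (fun i => e (g i)) r := by
  obtain ⟨R, hR, hg, hrel, huniv⟩ := h
  refine ⟨R, hR, ?_, fun w hw => ?_, fun Q _ g' hg' => ?_⟩
  · have := MonoidHom.map_closure e.toMonoidHom (Set.range g)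
    rw [hg, Subgroup.map_top_of_surjective _ e.surjective, ← Set.range_comp] at this
    exact this.symm
  · have := lift_map e.toMonoidHom g w
    rw [hrel w hw, map_one] at this
    exact this.symm
  · obtain ⟨f, hf⟩ := huniv Q g' hg'
    exact ⟨f.comp e.symm.toMonoidHom, fun i => by simp [hf]⟩

/-- Drop generators that the others generate. -/
theorem Tup.restrict {G : Type u} [Group G] {k l r : ℕ} {g : Fin k → G} (h : Tup g r)
    (s : Fin l → Fin k) (hs : Function.Injective s)
    (hgen : Subgroup.closure (Set.range (g ∘ s)) = ⊤) : Tup (g ∘ s) r := by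
  classical
  obtain ⟨R, hR, hg, hrel, huniv⟩ := h
  choose w hw using fun i => lift_surjective hgen (g i)
  let w' : Fin k → FreeGroup (Fin l) := fun i =>
    if hi : ∃ j, s j = i then FreeGroup.of hi.choose else w i
  have hw' : ∀ i, FreeGroup.lift (g ∘ s) (w' i) = g i := fun i => by
    by_cases hi : ∃ j, s j = i
    · simp only [w', dif_pos hi, FreeGroup.lift_apply_of, Function.comp_apply, hi.choose_spec]
    · simp only [w', dif_neg hi, hw]
  refine ⟨R.map (FreeGroup.lift w'), by simpa using hR, hgen, fun u hu => ?_, fun Q _ g' hg' => ?_⟩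
  · obtain ⟨v, hv, rfl⟩ := List.mem_map.1 hu
    rw [lift_map, show FreeGroup.lift (g ∘ s) ∘ w' = g from funext hw', hrel v hv]
  · obtain ⟨f, hf⟩ := huniv Q (fun i => FreeGroup.lift g' (w' i)) fun v hv => by
      have := hg' _ (List.mem_map.2 ⟨v, hv, rfl⟩)
      rwa [lift_map] at this
    refine ⟨f, fun j => ?_⟩
    rw [Function.comp_apply, hf]
    have hi : ∃ j', s j' = s j := ⟨j, rfl⟩
    have hc : hi.choose = j := hs hi.choose_spec
    simp only [w', dif_pos hi, FreeGroup.lift_apply_of, hc]

end Cfsg.Agent.BoundedPres.Short
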