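import Cfsg.Agent.Lib.BoundedPres.Piece
import Cfsg.Agent.Lib.BoundedPres.Short.Tuple

/-!
# Four relators for the alternating group of degree `p + 2`

The translation `a` and one three-cycle `x`. The relator `a ^ p = x ^ 3` replaces both orders:
the common value is central, killed by `z ^ 8 = 1` and an odd power.
-/

set_option autoImplicit false
set_option linter.unusedSectionVars false
set_option linter.style.haveILetI false

namespace Cfsg.Agent.BoundedPres.Short

open Subgroup Equiv Cfsg.Agent.BoundedPres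

theorem pow_eight_aux {Q : Type*} [Group Q] {u0 u1 u2 w : Q} (h012 : u0 * u1 * u2 = w) (h0 : u0 * u0 = 1)
    (h1 : u1 * u1 = 1) (h2 : u2 * u2 = 1) (hw0 : Commute w u0) (hw2 : Commute w u2) : w ^ 4 = 1 := by
  have i0 : u0⁻¹ = u0 := inv_eq_of_mul_eq_one_left h0
  have i1 : u1⁻¹ = u1 := inv_eq_of_mul_eq_one_left h1
  have i2 : u2⁻¹ = u2 := inv_eq_of_mul_eq_one_left h2
  have h01 : u0 * u1 = w * u2 := by rw [← h012, mul_assoc _ u2 u2, h2, mul_one]
  have h10 : u1 * u0 = w⁻¹ * u2 := by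
    have := congrArg (·⁻¹) h01
    simp only [_root_.mul_inv_rev, i0, i1, i2] at this
    rw [this, hw2.inv_left.eq]
  have hconj : u0 * (w * u2) * u0 = w⁻¹ * u2 := by
    rw [← h01, ← h10, ← mul_assoc, h0, one_mul]
  have hc : u0 * u2 * u0 = w⁻¹ * w⁻¹ * u2 := by
    calc u0 * u2 * u0 = w⁻¹ * (w * u0 * u2 * u0) := by group
      _ = w⁻¹ * (u0 * (w * u2) * u0) := by rw [hw0.eq, mul_assoc u0 w u2]
      _ = _ := by rw [hconj, mul_assoc]
  have hsq : (u0 * u2 * u0) * (u0 * u2 * u0) = 1 := by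
    rw [show u0 * u2 * u0 * (u0 * u2 * u0) = u0 * u2 * (u0 * u0) * u2 * u0 by group, h0, mul_one,
      mul_assoc u0 u2 u2, h2, mul_one, h0]
  have hcw : Commute (w⁻¹ * w⁻¹) u2 := hw2.inv_left.mul_left hw2.inv_left
  have key : w⁻¹ * w⁻¹ * (w⁻¹ * w⁻¹) = 1 := by
    rw [hc] at hsq
    calc w⁻¹ * w⁻¹ * (w⁻¹ * w⁻¹) = w⁻¹ * w⁻¹ * ((w⁻¹ * w⁻¹) * (u2 * u2)) := by rw [h2, mul_one]
      _ = w⁻¹ * w⁻¹ * (((w⁻¹ * w⁻¹) * u2) * u2) := by group
      _ = w⁻¹ * w⁻¹ * ((u2 * (w⁻¹ * w⁻¹)) * u2) := by rw [hcw.eq]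
      _ = w⁻¹ * w⁻¹ * u2 * (w⁻¹ * w⁻¹ * u2) := by group
      _ = 1 := hsq
  rw [← inv_eq_one, ← key]
  group

/-- In a double cover of `A₄` the common cube has order dividing eight. -/
theorem pow_eight {Q : Type*} [Group Q] {x y z : Q} (hx : x * x * x = z) (hy : y * y * y = z)
    (hxy : x * y * (x * y) = 1) : z ^ 8 = 1 := by
  have hcx : Commute z x := by
    rw [← hx]
    exact ((Commute.refl x).mul_left (Commute.refl x)).mul_left (Commute.refl x)
  have hcy : Commute z y := by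
    rw [← hy]
    exact ((Commute.refl y).mul_left (Commute.refl y)).mul_left (Commute.refl y)
  have hcu0 : Commute z (x * y) := hcx.mul_right hcy
  have hux : x * y * x = y⁻¹ := by rw [eq_inv_iff_mul_eq_one, mul_assoc, hxy]
  have h3 : x * y * (x * (x * y) * x⁻¹) * (x * (x * (x * y) * x⁻¹) * x⁻¹) = z⁻¹ * z⁻¹ := by
    calc _ = (x * y * x) * (x * y * x) * (x * y * x) * (x * x * x)⁻¹ := by group
      _ = y⁻¹ * y⁻¹ * y⁻¹ * z⁻¹ := by rw [hux, hx]
      _ = (y * y * y)⁻¹ * z⁻¹ := by group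
      _ = _ := by rw [hy]
  have hconj : ∀ u : Q, u * u = 1 → x * u * x⁻¹ * (x * u * x⁻¹) = 1 := fun u hu => by
    rw [show x * u * x⁻¹ * (x * u * x⁻¹) = x * (u * u) * x⁻¹ by group, hu, mul_one, mul_inv_cancel]
  have hcu2 : Commute z (x * (x * (x * y) * x⁻¹) * x⁻¹) :=
    (hcx.mul_right ((hcx.mul_right hcu0).mul_right hcx.inv_right)).mul_right hcx.inv_right
  have h := pow_eight_aux h3 hxy (hconj _ hxy) (hconj _ (hconj _ hxy))
    (hcu0.inv_left.mul_left hcu0.inv_left) (hcu2.inv_left.mul_left hcu2.inv_left)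
  rw [← inv_eq_one, ← h]
  group

theorem eq_one_of_pow_eight {Q : Type*} [Group Q] {z : Q} {n : ℤ} (h8 : z ^ 8 = 1) (hn : Odd n)
    (h : z ^ n = 1) : z = 1 := by
  rw [← orderOf_eq_one_iff]
  have h1 : orderOf z ∣ 2 ^ 3 := orderOf_dvd_of_pow_eq_one h8
  obtain ⟨k, -, hk⟩ := (Nat.dvd_prime_pow Nat.prime_two).1 h1
  rcases Nat.eq_zero_or_pos k with rfl | hk0
  · simpa using hk
  have h2 : ((orderOf z : ℕ) : ℤ) ∣ n := orderOf_dvd_iff_zpow_eq_one.2 h
  rw [hk] at h2
  have : (2 : ℤ) ∣ n := (Int.natCast_dvd_natCast.2 (dvd_pow_self 2 hk0.ne')).trans h2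
  exact absurd (even_iff_two_dvd.2 this) (Int.not_even_iff_odd.2 hn)

variable {p : ℕ}

/-- The translation and the base three-cycle. -/
def pieceGen (p : ℕ) [Fact p.Prime] : Fin 2 → alternatingGroup (Fin 2 ⊕ ZMod p) :=
  ![transl p, gen (0 : ZMod p)]

theorem piece_tup (p : ℕ) [Fact p.Prime] (hp : p ≠ 2) : Tup (pieceGen p) 4 := by
  classical
  have hp3 : 3 ≤ p := by have := (Fact.out : p.Prime).two_le; omega
  obtain ⟨r, hr⟩ := IsCyclic.exists_generator (α := (ZMod p)ˣ)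
  set A := transl p with hA
  set μ : Perm (ZMod p) := Units.mulLeft r with hμ
  set e : ℤˣ := Perm.sign μ
  set B := lft μ
  set X : alternatingGroup (Fin 2 ⊕ ZMod p) := gen (0 : ZMod p)
  obtain ⟨r', hr', hr'ev⟩ : ∃ r' : ℕ, (r' : ZMod p) = r ∧ Even r' := by
    rcases Nat.even_or_odd (r : ZMod p).val with h | h
    · exact ⟨_, ZMod.natCast_zmod_val _, h⟩
    · exact ⟨(r : ZMod p).val + p, by rw [Nat.cast_add, ZMod.natCast_zmod_val, ZMod.natCast_self, add_zero],
        h.add_odd ((Fact.out : p.Prime).odd_of_ne_two hp)⟩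
  have hr1 : (r : ZMod p) ≠ 1 := by
    intro h1
    obtain ⟨k, hk⟩ := hr (Units.mk0 (-1) (neg_ne_zero.2 one_ne_zero))
    rw [Units.ext (show ((r : (ZMod p)ˣ) : ZMod p) = ((1 : (ZMod p)ˣ) : ZMod p) from h1)] at hk
    have h2 : (1 : ZMod p) = -1 := by simpa using congrArg Units.val hk
    haveI : Fact (2 < p) := ⟨by omega⟩
    exact ZMod.neg_one_ne_one h2.symm
  let Xw : ZMod p → FreeGroup (Fin 2) := fun i =>
    FreeGroup.of 0 ^ i.val * FreeGroup.of 1 * (FreeGroup.of 0 ^ i.val)⁻¹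
  have hXw : ∀ i, FreeGroup.lift (pieceGen p) (Xw i) = gen i := fun i => by
    simp only [Xw, map_mul, map_pow, map_inv, FreeGroup.lift_apply_of]
    show A ^ i.val * gen 0 * (A ^ i.val)⁻¹ = gen i
    rw [hA, transl_pow hp, zero_add, ZMod.natCast_zmod_val]
  have hgen : Subgroup.closure (Set.range (pieceGen p)) = ⊤ := by
    rw [eq_top_iff, ← closure_gen, Subgroup.closure_le]
    rintro _ ⟨v, rfl⟩
    rw [← hXw v, ← FreeGroup.range_lift_eq_closure]
    exact ⟨Xw v, rfl⟩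
  obtain ⟨bw, hbw⟩ := lift_surjective hgen B
  set a : FreeGroup (Fin 2) := FreeGroup.of 0
  set x : FreeGroup (Fin 2) := FreeGroup.of 1
  refine Tup.of_card (R := [a ^ p * (x * x * x)⁻¹, bw * a * bw⁻¹ * (a ^ r')⁻¹,
    bw * x * bw⁻¹ * (x ^ (e : ℤ))⁻¹, x * (a * x * a⁻¹) * (x * (a * x * a⁻¹))]) le_rfl hgen ?_ ?_
  · have hAp : A ^ p = 1 := by
      rw [hA, transl, ← map_pow, addRight_pow, ZMod.natCast_self,
        show (Equiv.addRight (0 : ZMod p)) = 1 from Equiv.ext fun y => add_zero y, map_one]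
    simp only [List.forall_mem_cons, List.not_mem_nil, IsEmpty.forall_iff, implies_true, and_true,
      a, x, map_mul, map_pow, map_inv, map_zpow, FreeGroup.lift_apply_of, hbw]
    refine ⟨?_, ?_, ?_, ?_⟩
    · show A ^ p * (X * X * X)⁻¹ = 1
      rw [hAp, gen_mul_mul 0, inv_one, mul_one]
    · rw [mul_inv_eq_one]
      show B * A * B⁻¹ = A ^ r'
      rw [hA, transl, show B = lft μ from rfl, ← map_inv, ← map_mul, ← map_mul, ← map_pow,
        addRight_pow, hr']
      congr 1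
      ext y
      show μ (μ⁻¹ y + 1) = y + (r : ZMod p)
      have hμa : ∀ z, μ z = (r : ZMod p) * z := fun z => by simp [μ]
      have h2 : (r : ZMod p) * μ⁻¹ y = y := by rw [← hμa, ← Perm.mul_apply, mul_inv_cancel, Perm.one_apply]
      rw [hμa, mul_add, mul_one, h2]
    · rw [mul_inv_eq_one]
      show B * X * B⁻¹ = X ^ (e : ℤ)
      rw [lft_conj]
      simp [μ, X, e]
    · have := hXw (1 : ZMod p)
      simp only [Xw, ZMod.val_one, pow_one, map_mul, map_inv, FreeGroup.lift_apply_of] at this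
      show X * (A * X * A⁻¹) * (X * (A * X * A⁻¹)) = 1
      rw [show A * X * A⁻¹ = gen 1 from this]
      exact gen_mul_sq zero_ne_one
  · intro Q _ g' hgen' hrel
    simp only [List.forall_mem_cons, List.not_mem_nil, IsEmpty.forall_iff, implies_true, and_true,
      a, x, map_mul, map_pow, map_inv, map_zpow, FreeGroup.lift_apply_of] at hrel
    obtain ⟨hapx, hba, hbx, hx1⟩ := hrel
    rw [mul_inv_eq_one] at hapx hba hbx
    set aQ := g' 0
    set xQ := g' 1
    set bQ := FreeGroup.lift g' bw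
    -- the central value is trivial
    have hx3 : xQ * xQ * xQ = 1 := by
      have hxz : aQ * xQ * aQ⁻¹ * (aQ * xQ * aQ⁻¹) * (aQ * xQ * aQ⁻¹) = aQ ^ p := by
        rw [show aQ * xQ * aQ⁻¹ * (aQ * xQ * aQ⁻¹) * (aQ * xQ * aQ⁻¹) =
          aQ * (xQ * xQ * xQ) * aQ⁻¹ by group, ← hapx, ← (Commute.refl aQ).pow_left p, mul_inv_cancel_right]
      have h8 : (aQ ^ p) ^ 8 = 1 := pow_eight hapx.symm hxz hx1
      have e1 : bQ * aQ ^ p * bQ⁻¹ = (aQ ^ p) ^ (r' : ℤ) := by
        rw [← conj_pow, hba, zpow_natCast, ← pow_mul, ← pow_mul, Nat.mul_comm]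
      have e2 : bQ * aQ ^ p * bQ⁻¹ = (aQ ^ p) ^ (e : ℤ) := by
        rw [hapx, show bQ * (xQ * xQ * xQ) * bQ⁻¹ =
          bQ * xQ * bQ⁻¹ * (bQ * xQ * bQ⁻¹) * (bQ * xQ * bQ⁻¹) by group, hbx,
          show xQ * xQ * xQ = xQ ^ (3 : ℤ) by rw [show (3 : ℤ) = 1 + 1 + 1 from rfl, zpow_add, zpow_add, zpow_one], ← zpow_add, ← zpow_add, ← zpow_mul]
        congr 1
        ring
      have h0 : (aQ ^ p) ^ ((r' : ℤ) - (e : ℤ)) = 1 := by rw [zpow_sub, ← e1, e2, mul_inv_cancel]
      have hodd : Odd ((r' : ℤ) - (e : ℤ)) := by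
        have h1 : Even (r' : ℤ) := (Int.even_coe_nat _).2 hr'ev
        rcases Int.units_eq_one_or e with h | h <;> rw [h] <;>
          simp [Int.odd_sub, Int.not_odd_iff_even, h1]
      rw [← hapx]
      exact eq_one_of_pow_eight h8 hodd h0
    have hap : aQ ^ p = 1 := by rw [hapx, hx3]
    let Y : ZMod p → Q := fun i => aQ ^ i.val * xQ * (aQ ^ i.val)⁻¹
    have hYk : ∀ k : ℕ, aQ ^ k * xQ * (aQ ^ k)⁻¹ = Y (k : ZMod p) := fun k => by
      have e1 : aQ ^ k = aQ ^ (k % p) := by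
        nth_rewrite 1 [← Nat.mod_add_div k p]
        rw [pow_add, pow_mul, hap, one_pow, mul_one]
      simp only [Y, ZMod.val_natCast, ← e1]
    have hY0 : Y 0 = xQ := by simp [Y]
    have hshift : ∀ (k : ℕ) (i : ZMod p), aQ ^ k * Y i * (aQ ^ k)⁻¹ = Y (i + k) := fun k i => by
      rw [show i + (k : ZMod p) = ((k + i.val : ℕ) : ZMod p) by push_cast; rw [ZMod.natCast_zmod_val]; ring,
        ← hYk, pow_add]
      simp only [Y]
      group
    have hbY : ∀ i, bQ * Y i * bQ⁻¹ = Y ((r : ZMod p) * i) ^ (e : ℤ) := fun i => by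
      have h1 : bQ * aQ ^ i.val * bQ⁻¹ = aQ ^ (r' * i.val) := by
        rw [← conj_pow, hba, ← pow_mul]
      rw [show (r : ZMod p) * i = ((r' * i.val : ℕ) : ZMod p) by
        push_cast; rw [ZMod.natCast_zmod_val, hr'], ← hYk, conj_zpow, ← hbx, ← h1]
      simp only [Y]
      group
    have hd : ∀ d : ZMod p, d ≠ 0 → xQ * Y d * (xQ * Y d) = 1 := by
      intro d hd0
      obtain ⟨k, hk⟩ := mem_powers_iff_mem_zpowers.2 (hr (Units.mk0 d hd0))
      have hk' : d = (r : ZMod p) ^ k := by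
        have := congrArg Units.val hk
        simpa using this.symm
      subst hk'
      clear hd0 hk
      induction k with
      | zero => simpa [Y, ZMod.val_one] using hx1
      | succ k ih =>
        have := sq_zpow_unit e (conj_sq bQ ih)
        rwa [hbx, hbY, zpow_unit_zpow, zpow_unit_zpow, ← pow_succ'] at this
    refine finite_of_carmichael Y (fun i => ?_) (fun i j hij => ?_) ?_
    · calc Y i * Y i * Y i = aQ ^ i.val * (xQ * xQ * xQ) * (aQ ^ i.val)⁻¹ := by simp only [Y]; group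
        _ = 1 := by rw [hx3, mul_one, mul_inv_cancel]
    · have h := conj_sq (aQ ^ i.val) (hd (j - i) (sub_ne_zero.2 hij.symm))
      rw [hshift, ZMod.natCast_zmod_val, sub_add_cancel] at h
      nth_rewrite 1 [← hY0] at h
      rw [← hY0, hshift, ZMod.natCast_zmod_val, zero_add] at h
      exact h
    · set H := Subgroup.closure (Set.range Y) with hH
      have hxH : xQ ∈ H := Subgroup.subset_closure ⟨0, hY0⟩
      have hnorm : ∀ k : ℕ, ∀ h ∈ H, aQ ^ k * h * (aQ ^ k)⁻¹ ∈ H := by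
        intro k h hh
        have : H ≤ H.comap (MulAut.conj (aQ ^ k)).toMonoidHom := (Subgroup.closure_le _).2 (by
          rintro _ ⟨i, rfl⟩
          show aQ ^ k * Y i * (aQ ^ k)⁻¹ ∈ H
          rw [hshift]
          exact Subgroup.subset_closure ⟨_, rfl⟩)
        exact this hh
      -- every element is a power of `aQ` modulo `H`
      have hQ : ∀ q : Q, ∃ k : ℕ, ∃ h ∈ H, q = h * aQ ^ k := by
        intro q
        have hq : q ∈ Subgroup.closure (Set.range g') := by rw [hgen']; exact Subgroup.mem_top q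
        induction hq using Subgroup.closure_induction with
        | mem y hy =>
          obtain ⟨i, rfl⟩ := hy
          fin_cases i
          · exact ⟨1, 1, one_mem _, by simp [aQ]⟩
          · exact ⟨0, xQ, hxH, by simp [xQ]⟩
        | one => exact ⟨0, 1, one_mem _, by simp⟩
        | mul y z _ _ iy iz =>
          obtain ⟨k, h, hh, rfl⟩ := iy
          obtain ⟨l, h', hh', rfl⟩ := iz
          exact ⟨k + l, h * (aQ ^ k * h' * (aQ ^ k)⁻¹), mul_mem hh (hnorm k h' hh'),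
            by rw [pow_add]; group⟩
        | inv y _ iy =>
          obtain ⟨k, h, hh, rfl⟩ := iy
          have hk : (aQ ^ k)⁻¹ = aQ ^ (p * k - k) := by
            rw [inv_eq_iff_mul_eq_one, ← pow_add, Nat.add_sub_cancel' (Nat.le_mul_of_pos_left k (by omega)),
              pow_mul, hap, one_pow]
          exact ⟨p * k - k, aQ ^ (p * k - k) * h⁻¹ * (aQ ^ (p * k - k))⁻¹, hnorm _ _ (inv_mem hh),
            by rw [mul_inv_rev, hk]; group⟩
      obtain ⟨k, h, hh, hbk⟩ := hQ bQ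
      -- conjugation by `bQ` is trivial modulo `H`
      have haH : aQ ∈ H := by
        have h1 : bQ * aQ * bQ⁻¹ * aQ⁻¹ ∈ H := by
          rw [hbk, show h * aQ ^ k * aQ * (h * aQ ^ k)⁻¹ * aQ⁻¹ = h * (aQ * h⁻¹ * aQ⁻¹) by group]
          have := hnorm 1 h⁻¹ (inv_mem hh)
          rw [pow_one] at this
          exact mul_mem hh this
        rw [hba, ← div_eq_mul_inv] at h1
        have h2 : aQ ^ ((r' : ℤ) - 1) ∈ H := by rwa [zpow_sub_one, zpow_natCast, ← div_eq_mul_inv]
        have hcop : IsCoprime ((r' : ℤ) - 1) (p : ℤ) := by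
          refine (Nat.prime_iff_prime_int.1 (Fact.out : p.Prime)).coprime_iff_not_dvd.2 ?_ |>.symm
          intro hdvd
          apply hr1
          have : (((r' : ℤ) - 1 : ℤ) : ZMod p) = 0 := (ZMod.intCast_zmod_eq_zero_iff_dvd _ p).2 hdvd
          push_cast at this
          rw [hr', sub_eq_zero] at this
          exact this
        obtain ⟨u, w, huw⟩ := hcop
        have : aQ = (aQ ^ ((r' : ℤ) - 1)) ^ u * (aQ ^ (p : ℤ)) ^ w := by
          rw [← zpow_mul, ← zpow_mul, ← zpow_add, mul_comm _ u, mul_comm _ w, huw, zpow_one]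
        rw [this, zpow_natCast, hap, one_zpow, mul_one]
        exact H.zpow_mem h2 u
      rw [eq_top_iff, ← hgen', Subgroup.closure_le]
      rintro _ ⟨i, rfl⟩
      fin_cases i
      · exact haH
      · exact hxH

end Cfsg.Agent.BoundedPres.Short
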