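import Cfsg.Agent.Lib.BoundedPres.Alt
import Cfsg.Agent.Lib.BoundedPres.Short.Piece

/-!
# Seven relators for alternating and symmetric groups

The piece of degree `p + 2` and one `m`-cycle `A`, possibly exchanging the two special points.
Two relators make `A` shift the piece; the last one is `A ^ m * β ^ k = v` with
`β = A ^ (-i) (a⁻¹ A) A ^ i` known to normalise `⟨x⟩`, so it gives periodicity and the index.
-/

set_option autoImplicit false
set_option linter.unusedSectionVars false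
set_option linter.style.haveILetI false

namespace Cfsg.Agent.BoundedPres.Short

open Subgroup Equiv Cfsg.Agent.BoundedPres

/-- Conjugation by a power. -/
theorem conj_pow_unit {Q : Type*} [Group Q] {g x : Q} {e : ℤˣ} (h : g * x * g⁻¹ = x ^ (e : ℤ))
    (k : ℤ) : g ^ k * x * (g ^ k)⁻¹ = x ^ ((e ^ k : ℤˣ) : ℤ) := by
  have h' : g⁻¹ * x * g = x ^ (e : ℤ) := by
    have : g⁻¹ * x ^ (e : ℤ) * g = x := by rw [← h]; group
    nth_rewrite 1 [← zpow_unit_zpow x e]
    rw [show g⁻¹ * (x ^ (e : ℤ)) ^ (e : ℤ) * g = (g⁻¹ * x ^ (e : ℤ) * (g⁻¹)⁻¹) ^ (e : ℤ) by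
      rw [conj_zpow, inv_inv], inv_inv, this]
  induction k using Int.induction_on with
  | zero => simp
  | succ k ih =>
    rw [zpow_add_one, show g ^ (k : ℤ) * g * x * (g ^ (k : ℤ) * g)⁻¹ =
      g ^ (k : ℤ) * (g * x * g⁻¹) * (g ^ (k : ℤ))⁻¹ by group, h, ← conj_zpow, ih, ← zpow_mul,
      ← Units.val_mul, ← zpow_add_one]
  | pred k ih =>
    rw [zpow_sub_one, show g ^ (-(k : ℤ)) * g⁻¹ * x * (g ^ (-(k : ℤ)) * g⁻¹)⁻¹ =
      g ^ (-(k : ℤ)) * (g⁻¹ * x * g) * (g ^ (-(k : ℤ)))⁻¹ by group, h', ← conj_zpow, ih, ← zpow_mul,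
      ← Units.val_mul]
    congr 2
    rw [zpow_sub_one, Int.units_inv_eq_self]

section Derived

variable {p : ℕ} [Fact p.Prime] {Q : Type*} [Group Q]
  (f : alternatingGroup (Fin 2 ⊕ ZMod p) →* Q) (A : Q) (e : ℤˣ)

/-- The cycle on `[0, p - 1)`. -/
noncomputable def cutA (p : ℕ) [Fact p.Prime] : Perm (ZMod p) := ivl 0 (p - 1) (Nat.sub_le _ _)

/-- The cycle on `[1, p)`. -/
noncomputable def cutB (p : ℕ) [Fact p.Prime] : Perm (ZMod p) := ivl 1 p le_rfl

/-- The two shift relators. -/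
structure Shifts : Prop where
  base : A * f (gen 0) * A⁻¹ = f (gen 1) ^ (e : ℤ)
  cut : A * f (lft (cutA p)) * A⁻¹ = f (lft (cutB p))
  sign : Perm.sign (cutA p) = Perm.sign (cutB p)

/-- The element `β`. -/
def beta : Q := (A ^ (p - 2))⁻¹ * ((f (transl p))⁻¹ * A) * A ^ (p - 2)

theorem step (π : Perm (ZMod p)) (v : ZMod p) :
    f (lft π) * f (gen v) * (f (lft π))⁻¹ = f (gen (π v)) ^ ((Perm.sign π : ℤˣ) : ℤ) := by
  rw [← map_inv, ← map_mul, ← map_mul, lft_conj, map_zpow]

variable {f A e}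

theorem Shifts.shift_gen (h : Shifts f A e) (i : ℕ) (hi : i + 2 ≤ p) :
    A * f (gen (i : ZMod p)) * A⁻¹ = f (gen ((i + 1 : ℕ) : ZMod p)) ^ (e : ℤ) := by
  induction i with
  | zero => simpa using h.base
  | succ i ih =>
    refine zpow_unit_inj (Perm.sign (cutA p)) ?_
    have h1 := step f (cutA p) ((i : ℕ) : ZMod p)
    rw [show cutA p ((i : ℕ) : ZMod p) = ((i + 1 : ℕ) : ZMod p) by
      rw [cutA, ivl_natCast _ (by omega), show shift 0 (p - 1) i = i + 1 by
        unfold shift; split_ifs <;> omega]] at h1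
    have h2 := step f (cutB p) ((i + 1 : ℕ) : ZMod p)
    rw [show cutB p ((i + 1 : ℕ) : ZMod p) = ((i + 2 : ℕ) : ZMod p) by
      rw [cutB, ivl_natCast _ (by omega), show shift 1 p (i + 1) = i + 2 by
        unfold shift; split_ifs <;> omega]] at h2
    rw [conj_zpow, ← h1, show ∀ C X : Q, A * (C * X * C⁻¹) * A⁻¹ =
      (A * C * A⁻¹) * (A * X * A⁻¹) * (A * C * A⁻¹)⁻¹ from fun C X => by group,
      h.cut, ih (by omega), ← conj_zpow, h2, ← h.sign, ← zpow_mul, ← zpow_mul, mul_comm]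

theorem Shifts.iter (h : Shifts f A e) (i : ℕ) (hi : i + 1 ≤ p) :
    A ^ i * f (gen 0) * (A ^ i)⁻¹ = f (gen (i : ZMod p)) ^ ((e ^ i : ℤˣ) : ℤ) := by
  induction i with
  | zero => simp
  | succ i ih =>
    rw [pow_succ', show A * A ^ i * f (gen 0) * (A * A ^ i)⁻¹ =
      A * (A ^ i * f (gen 0) * (A ^ i)⁻¹) * A⁻¹ by group, ih (by omega), ← conj_zpow,
      h.shift_gen i (by omega), ← zpow_mul, ← Units.val_mul, ← pow_succ']

theorem Shifts.beta_conj (hp : p ≠ 2) (h : Shifts f A e) :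
    beta f A * f (gen 0) * (beta f A)⁻¹ = f (gen 0) ^ (e : ℤ) := by
  have h2 := (Fact.out : p.Prime).two_le
  have hB : (f (transl p))⁻¹ * A * f (gen ((p - 2 : ℕ) : ZMod p)) * ((f (transl p))⁻¹ * A)⁻¹ =
      f (gen ((p - 2 : ℕ) : ZMod p)) ^ (e : ℤ) := by
    have ht := transl_pow hp 1 ((p - 2 : ℕ) : ZMod p)
    rw [pow_one, show ((p - 2 : ℕ) : ZMod p) + ((1 : ℕ) : ZMod p) = ((p - 2 + 1 : ℕ) : ZMod p) by
      push_cast; ring] at ht
    have ht' := congrArg f ht
    rw [map_mul, map_mul, map_inv] at ht'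
    rw [show (f (transl p))⁻¹ * A * f (gen ((p - 2 : ℕ) : ZMod p)) * ((f (transl p))⁻¹ * A)⁻¹ =
      (f (transl p))⁻¹ * (A * f (gen ((p - 2 : ℕ) : ZMod p)) * A⁻¹) * ((f (transl p))⁻¹)⁻¹ by group,
      h.shift_gen _ (by omega), ← conj_zpow, inv_inv, ← ht']
    congr 1
    group
  have hW := h.iter (p - 2) (by omega)
  rw [beta, show ∀ C B X : Q, C⁻¹ * B * C * X * (C⁻¹ * B * C)⁻¹ = C⁻¹ * (B * (C * X * C⁻¹) * B⁻¹) * C
    from fun C B X => by group, hW, ← conj_zpow, hB, ← zpow_mul, mul_comm, zpow_mul, ← hW]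
  generalize A ^ (p - 2) = C
  rw [conj_zpow]
  group

theorem Shifts.periodic (hp : p ≠ 2) (h : Shifts f A e) {m : ℕ} {k : ℤ}
    {v : alternatingGroup (Fin 2 ⊕ ZMod p)} (hR : A ^ m * beta f A ^ k = f v)
    (hv : v * gen 0 * v⁻¹ = gen 0 ^ (((e ^ m * e ^ k : ℤˣ)) : ℤ)) :
    A ^ m * f (gen 0) * (A ^ m)⁻¹ = f (gen 0) ^ ((e ^ m : ℤˣ) : ℤ) := by
  have hb := conj_pow_unit (h.beta_conj hp) (-k)
  rw [show A ^ m = f v * beta f A ^ (-k) by rw [← hR, zpow_neg]; group,
    show f v * beta f A ^ (-k) * f (gen 0) * (f v * beta f A ^ (-k))⁻¹ =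
      f v * (beta f A ^ (-k) * f (gen 0) * (beta f A ^ (-k))⁻¹) * (f v)⁻¹ by group, hb, ← conj_zpow,
    ← map_inv, ← map_mul, ← map_mul, hv, map_zpow, ← zpow_mul, ← Units.val_mul, mul_assoc,
    ← zpow_add, add_neg_cancel, zpow_zero, mul_one]

end Derived

section Model

variable {m : ℕ}

/-- The generator `A`. -/
def rotA (σ : Perm (Fin 2)) (m : ℕ) : Perm (Fin 2 ⊕ Fin m) := sumCongr σ (finRotate m)

theorem perm_two : ∀ σ : Perm (Fin 2), σ = 1 ∨ σ = swap 0 1 := by decide

theorem rotA_conj_cyc (σ : Perm (Fin 2)) (v : Fin m) :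
    rotA σ m * cyc v * (rotA σ m)⁻¹ = cyc (finRotate m v) ^ ((Perm.sign σ : ℤˣ) : ℤ) := by
  have h := conj_cyc (σ := rotA σ m) (v := v) (w := finRotate m v) rfl
  rcases perm_two σ with rfl | rfl
  · rw [map_one, Units.val_one, zpow_one]
    exact h.1 (by simp [rotA]) (by simp [rotA])
  · rw [Perm.sign_swap (by decide), Units.val_neg, Units.val_one, zpow_neg_one]
    exact h.2 (by simp [rotA]) (by simp [rotA])

theorem val_finRotate {m : ℕ} (x : Fin m) : ((finRotate m x : Fin m) : ℕ) = (x + 1) % m := by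
  haveI := x.neZero
  rw [finRotate_apply, Fin.val_add, Fin.val_one', Nat.add_mod_mod]

theorem val_rot_pow {m : ℕ} (i : ℕ) (x : Fin m) : (((finRotate m) ^ i) x : ℕ) = (x + i) % m := by
  induction i with
  | zero => simp [Nat.mod_eq_of_lt x.isLt]
  | succ i ih => rw [pow_succ', Perm.mul_apply, val_finRotate, ih, Nat.mod_add_mod, Nat.add_assoc]

theorem rotA_pow_inr (σ : Perm (Fin 2)) (i : ℕ) (x : Fin m) :
    (rotA σ m ^ i) (Sum.inr x) = Sum.inr (((finRotate m) ^ i) x) := by
  induction i with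
  | zero => simp
  | succ i ih => rw [pow_succ', Perm.mul_apply, ih, pow_succ', Perm.mul_apply]; rfl

theorem exists_emb {γ δ : Type*} [Fintype γ] [DecidableEq γ] [Fintype δ] [DecidableEq δ] (e : γ ↪ δ)
    (τ : Perm (Fin 2 ⊕ δ)) (hs : Perm.sign τ = 1) (hfix : ∀ y, y ∉ Set.range e → τ (Sum.inr y) = Sum.inr y) :
    ∃ v : alternatingGroup (Fin 2 ⊕ γ), (emb e v : Perm (Fin 2 ⊕ δ)) = τ := by
  classical
  set ι := (Function.Embedding.refl (Fin 2)).sumMap e
  have hout : ∀ z, z ∉ Set.range ι → τ z = z := by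
    rintro (z | z) hz
    · exact absurd ⟨Sum.inl z, rfl⟩ hz
    · exact hfix z fun ⟨y, hy⟩ => hz ⟨Sum.inr y, congrArg Sum.inr hy⟩
  have hex : ∀ u, ∃ u', ι u' = τ (ι u) := fun u => by
    by_contra h
    have h1 : τ (τ (ι u)) = τ (ι u) := hout _ h
    exact h ⟨u, (τ.injective h1).symm⟩
  choose F hF using hex
  let π : Perm (Fin 2 ⊕ γ) := Equiv.ofBijective F (Finite.injective_iff_bijective.1 fun u w h =>
    ι.injective (τ.injective (by rw [← hF, ← hF, h])))
  have hπ : π.viaEmbedding ι = τ := Equiv.ext fun z => by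
    by_cases hz : z ∈ Set.range ι
    · obtain ⟨u, rfl⟩ := hz
      rw [Perm.viaEmbedding_apply]
      exact hF u
    · rw [Perm.viaEmbedding_apply_of_notMem _ _ _ hz, hout z hz]
  refine ⟨⟨π, ?_⟩, hπ⟩
  rw [Perm.mem_alternatingGroup, ← sign_via ι, hπ, hs]

theorem glue (σ : Perm (Fin 2)) (p m D : ℕ) [Fact p.Prime] (hp : p ≠ 2) (hpm : p ≤ m)
    (hmp : m + 2 ≤ 2 * p) (hD : 0 < D) (hsign : Perm.sign (rotA σ m) ^ D = 1)
    (G : Subgroup (Perm (Fin 2 ⊕ Fin m))) (halt : alternatingGroup (Fin 2 ⊕ Fin m) ≤ G)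
    (hA : rotA σ m ∈ G) (hcard : Nat.card G = D * Nat.card (alternatingGroup (Fin 2 ⊕ Fin m)))
    (hgen : ∀ g ∈ G, ∃ j : ℕ, g * rotA σ m ^ j ∈ alternatingGroup (Fin 2 ⊕ Fin m)) :
    ∃ g : Fin 3 → G, Tup g 7 ∧ Subgroup.closure (Set.range (g ∘ Fin.succ)) = ⊤ := by
  classical
  have hp3 : 3 ≤ p := by have := (Fact.out : p.Prime).two_le; omega
  obtain ⟨R, hR, hpg, hprel, huniv⟩ := piece_tup p hp
  let e1 : ZMod p ↪ Fin m := ⟨fun v => ⟨v.val, lt_of_lt_of_le v.val_lt hpm⟩,
    fun v w h => ZMod.val_injective p (congrArg Fin.val h)⟩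
  have hcast : ∀ n, n < p → ((n : ZMod p)).val = n := fun n h => by
    rw [ZMod.val_natCast, Nat.mod_eq_of_lt h]
  have hn1 : ∀ x : Fin m, x ∉ Set.range e1 → p ≤ (x : ℕ) := fun x hx => by
    by_contra h
    exact hx ⟨((x : ℕ) : ZMod p), Fin.ext (hcast _ (by omega))⟩
  have hval1 : ∀ v, ((e1 v : Fin m) : ℕ) = v.val := fun v => rfl
  set Ap := rotA σ m with hAp
  set ε : ℤˣ := Perm.sign σ with hε
  let fP : alternatingGroup (Fin 2 ⊕ ZMod p) →* Perm (Fin 2 ⊕ Fin m) :=
    (alternatingGroup (Fin 2 ⊕ Fin m)).subtype.comp (emb e1)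
  have hfP : Function.Injective fP := by
    intro u w h
    exact Subtype.ext (Perm.viaEmbeddingHom_injective ((Function.Embedding.refl (Fin 2)).sumMap e1) h)
  -- the shifts in the model
  have hperm : finRotate m * (cutA p).viaEmbedding e1 = (cutB p).viaEmbedding e1 * finRotate m := by
    refine Equiv.ext fun y => Fin.ext ?_
    rw [Perm.mul_apply, Perm.mul_apply, val_finRotate,
      via_val e1 (cutA p) (shift 0 (p - 1)) (fun v => val_ivl _ _ _ v)
        (fun y hy => by have := hn1 y hy; unfold shift; split_ifs <;> omega),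
      via_val e1 (cutB p) (shift 1 p) (fun v => val_ivl _ _ _ v)
        (fun y hy => by have := hn1 y hy; unfold shift; split_ifs <;> omega), val_finRotate]
    have hy := y.isLt
    have hmod : ((y : ℕ) + 1) % m = if (y : ℕ) + 1 < m then (y : ℕ) + 1 else 0 := by
      split_ifs with h
      · exact Nat.mod_eq_of_lt h
      · rw [show (y : ℕ) + 1 = m by omega, Nat.mod_self]
    have hmod' : (shift 0 (p - 1) (y : ℕ) + 1) % m =
        if shift 0 (p - 1) (y : ℕ) + 1 < m then shift 0 (p - 1) (y : ℕ) + 1 else 0 := by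
      split_ifs with h
      · exact Nat.mod_eq_of_lt h
      · have := shift_lt (lo := 0) (hi := p - 1) (v := (y : ℕ)) (p := m) (by omega) hy
        rw [show shift 0 (p - 1) (y : ℕ) + 1 = m by omega, Nat.mod_self]
    rw [hmod, hmod']
    unfold shift
    split_ifs <;> omega
  have hcsign : Perm.sign (cutA p) = Perm.sign (cutB p) := by
    have := congrArg Perm.sign hperm
    rw [map_mul, map_mul, sign_via, sign_via, mul_comm] at this
    exact mul_right_cancel this
  have hshP : Shifts fP Ap ε := by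
    refine ⟨?_, ?_, hcsign⟩
    · show Ap * ((emb e1 (gen 0) : _) : Perm (Fin 2 ⊕ Fin m)) * Ap⁻¹ =
        ((emb e1 (gen 1) : _) : Perm (Fin 2 ⊕ Fin m)) ^ (ε : ℤ)
      rw [emb_gen, emb_gen]
      show Ap * cyc (e1 0) * Ap⁻¹ = cyc (e1 1) ^ (ε : ℤ)
      rw [rotA_conj_cyc, show finRotate m (e1 0) = e1 1 from Fin.ext (by
        rw [val_finRotate, hval1, hval1, ZMod.val_zero, ZMod.val_one, Nat.mod_eq_of_lt (by omega)])]
    · show Ap * ((emb e1 (lft (cutA p)) : _) : Perm (Fin 2 ⊕ Fin m)) * Ap⁻¹ =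
        ((emb e1 (lft (cutB p)) : _) : Perm (Fin 2 ⊕ Fin m))
      rw [emb_lft, emb_lft, mul_inv_eq_iff_eq_mul, lft_coe, lft_coe, sign_via, sign_via, ← hcsign,
        hAp, rotA, Perm.sumCongr_mul, Perm.sumCongr_mul, hperm,
        show σ * parity (Perm.sign (cutA p)) = parity (Perm.sign (cutA p)) * σ from
          (by decide : ∀ a b : Perm (Fin 2), a * b = b * a) _ _]
  -- the last relator in the model
  set k : ℤ := (D : ℤ) - m with hk
  set τ := Ap ^ m * beta fP Ap ^ k with hτ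
  have hBfix : ∀ y : Fin m, (y : ℕ) + 1 < p →
      ((fP (transl p))⁻¹ * Ap) (Sum.inr y) = Sum.inr y := by
    intro y hy
    rw [Perm.mul_apply, Perm.inv_eq_iff_eq]
    show Sum.inr (finRotate m y) = ((emb e1 (lft _) : _) : Perm (Fin 2 ⊕ Fin m)) (Sum.inr y)
    rw [emb_lft, lft_coe]
    show Sum.inr (finRotate m y) = Sum.inr _
    congr 1
    rw [show y = e1 ((y : ℕ) : ZMod p) from Fin.ext (hcast _ (by omega)).symm,
      Perm.viaEmbedding_apply]
    refine Fin.ext ?_
    rw [val_finRotate, hval1, hval1]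
    simp only [Equiv.coe_addRight]
    rw [← Nat.cast_add_one, hcast _ (by omega), hcast _ (by omega), Nat.mod_eq_of_lt (by omega)]
  have hβfix : ∀ y : Fin m, y ∉ Set.range e1 → beta fP Ap (Sum.inr y) = Sum.inr y := by
    intro y hy
    have hy' := hn1 y hy
    rw [beta, Perm.mul_apply, Perm.mul_apply, Perm.inv_eq_iff_eq, rotA_pow_inr]
    refine hBfix _ ?_
    rw [val_rot_pow, Nat.mod_eq_sub_mod (by omega), Nat.mod_eq_of_lt (by omega)]
    omega
  have hτfix : ∀ y : Fin m, y ∉ Set.range e1 → τ (Sum.inr y) = Sum.inr y := by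
    intro y hy
    have h1 : beta fP Ap ^ k ∈ MulAction.stabilizer (Perm (Fin 2 ⊕ Fin m)) (Sum.inr y : Fin 2 ⊕ Fin m) :=
      zpow_mem (hβfix y hy) k
    rw [MulAction.mem_stabilizer_iff, Perm.smul_def] at h1
    rw [hτ, Perm.mul_apply, h1, rotA_pow_inr]
    congr 1
    refine Fin.ext ?_
    rw [val_rot_pow, Nat.add_mod_right, Nat.mod_eq_of_lt y.isLt]
  have hτs : Perm.sign τ = 1 := by
    have ha : Perm.sign (fP (transl p)) = 1 := (emb e1 (transl p)).2
    have hb : Perm.sign (beta fP Ap) = Perm.sign Ap := by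
      simp only [beta, map_mul, map_inv, map_pow, ha, inv_one, one_mul]
      rw [mul_comm, ← mul_assoc, mul_inv_cancel, one_mul]
    rw [hτ, map_mul, map_pow, map_zpow, hb, ← zpow_natCast, ← zpow_add, hk, add_sub_cancel, zpow_natCast]
    exact hsign
  obtain ⟨v, hv⟩ := exists_emb e1 τ hτs hτfix
  have hvP : τ = fP v := hv.symm
  have hAiter : ∀ (i : ℕ) (y : Fin m), Ap ^ i * cyc y * (Ap ^ i)⁻¹ =
      cyc (((finRotate m) ^ i) y) ^ ((ε ^ i : ℤˣ) : ℤ) := by
    intro i y
    induction i with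
    | zero => simp
    | succ i ih =>
      rw [pow_succ', show Ap * Ap ^ i * cyc y * (Ap * Ap ^ i)⁻¹ =
        Ap * (Ap ^ i * cyc y * (Ap ^ i)⁻¹) * Ap⁻¹ by group, ih, ← conj_zpow, rotA_conj_cyc, ← zpow_mul,
        ← Units.val_mul, ← pow_succ', pow_succ' (finRotate m) i, Perm.mul_apply]
  have hx0 : fP (gen 0) = cyc (e1 0) := by
    show ((emb e1 (gen 0) : _) : Perm (Fin 2 ⊕ Fin m)) = _
    rw [emb_gen]; rfl
  have hvc : v * gen 0 * v⁻¹ = gen 0 ^ (((ε ^ m * ε ^ k : ℤˣ)) : ℤ) := by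
    refine hfP ?_
    have hb := conj_pow_unit (hshP.beta_conj hp) k
    rw [map_mul, map_mul, map_inv, map_zpow, ← hvP, hτ,
      show ∀ a b x : Perm (Fin 2 ⊕ Fin m), a * b * x * (a * b)⁻¹ = a * (b * x * b⁻¹) * a⁻¹ from
        fun a b x => by group, hb, ← conj_zpow, hx0, hAiter, ← zpow_mul, ← Units.val_mul]
    congr 2
    refine Fin.ext ?_
    rw [val_rot_pow, Nat.add_mod_right, Nat.mod_eq_of_lt (e1 0).isLt]
  -- generators
  let inc := Subgroup.inclusion halt
  let gG : Fin 3 → G := ![inc (emb e1 (transl p)), inc (emb e1 (gen 0)), ⟨Ap, hA⟩]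
  have hgP : (fun i => (gG i : Perm (Fin 2 ⊕ Fin m))) = ![fP (transl p), fP (gen 0), Ap] := by
    funext i; fin_cases i <;> rfl
  choose wd hwd using lift_surjective hpg
  let ι3 : Fin 2 → FreeGroup (Fin 3) := ![FreeGroup.of 0, FreeGroup.of 1]
  let W := fun c => FreeGroup.lift ι3 (wd c)
  have hWP : ∀ c, FreeGroup.lift ![fP (transl p), fP (gen 0), Ap] (W c) = fP c := fun c => by
    rw [lift_map]
    conv_rhs => rw [← hwd c, lift_map]
    exact congrArg (FreeGroup.lift · (wd c)) (funext fun i => by fin_cases i <;> simp [ι3, pieceGen])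
  let A' : FreeGroup (Fin 3) := FreeGroup.of 2
  let β' : FreeGroup (Fin 3) := (A' ^ (p - 2))⁻¹ * ((W (transl p))⁻¹ * A') * A' ^ (p - 2)
  have hclo : Subgroup.closure (Set.range (gG ∘ Fin.succ)) = ⊤ := by
    set H := Subgroup.closure (Set.range (gG ∘ Fin.succ))
    have hxH : inc (emb e1 (gen 0)) ∈ H := Subgroup.subset_closure ⟨0, rfl⟩
    have hAH : (⟨Ap, hA⟩ : G) ∈ H := Subgroup.subset_closure ⟨1, rfl⟩
    have haltH : ∀ c : alternatingGroup (Fin 2 ⊕ Fin m), inc c ∈ H := by
      have : (⊤ : Subgroup (alternatingGroup (Fin 2 ⊕ Fin m))) ≤ H.comap inc := by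
        rw [← closure_gen, Subgroup.closure_le]
        rintro _ ⟨y, rfl⟩
        have hz := hAiter (y : ℕ) (e1 0)
        rw [show ((finRotate m) ^ (y : ℕ)) (e1 0) = y from Fin.ext (by
          rw [val_rot_pow, hval1, ZMod.val_zero, zero_add, Nat.mod_eq_of_lt y.isLt])] at hz
        have : inc (gen y) = ((⟨Ap, hA⟩ : G) ^ (y : ℕ) * inc (emb e1 (gen 0)) *
            ((⟨Ap, hA⟩ : G) ^ (y : ℕ))⁻¹) ^ ((ε ^ (y : ℕ) : ℤˣ) : ℤ) := by
          refine Subtype.ext ?_
          rw [SubgroupClass.coe_zpow, Subgroup.coe_mul, Subgroup.coe_mul, Subgroup.coe_inv,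
            SubgroupClass.coe_pow]
          show cyc y = (Ap ^ (y : ℕ) * fP (gen 0) * (Ap ^ (y : ℕ))⁻¹) ^ _
          rw [hx0, hz, zpow_unit_zpow]
        show inc (gen y) ∈ H
        rw [this]
        exact H.zpow_mem (mul_mem (mul_mem (pow_mem hAH _) hxH) (inv_mem (pow_mem hAH _))) _
      exact fun c => this (Subgroup.mem_top c)
    rw [eq_top_iff]
    intro g _
    obtain ⟨j, hj⟩ := hgen g g.2
    have := mul_mem (haltH ⟨_, hj⟩) (inv_mem (pow_mem hAH j))
    rwa [show inc ⟨_, hj⟩ * ((⟨Ap, hA⟩ : G) ^ j)⁻¹ = g from Subtype.ext (by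
      rw [Subgroup.coe_mul, Subgroup.coe_inv, SubgroupClass.coe_pow]
      exact mul_inv_cancel_right _ _)] at this
  refine ⟨gG, Tup.of_card (R := R.map (FreeGroup.lift ι3) ++
    [A' * FreeGroup.of 1 * A'⁻¹ * (W (gen 1) ^ (ε : ℤ))⁻¹,
      A' * W (lft (cutA p)) * A'⁻¹ * (W (lft (cutB p)))⁻¹,
      A' ^ m * β' ^ k * (W v)⁻¹]) ?_ ?_ ?_ ?_, hclo⟩
  · simp only [List.length_append, List.length_map, List.length_cons, List.length_nil]; omega
  · refine eq_top_iff.2 (hclo ▸ Subgroup.closure_mono ?_)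
    exact Set.range_comp_subset_range _ _
  · intro u hu
    refine Subtype.ext ?_
    show G.subtype (FreeGroup.lift gG u) = 1
    rw [lift_map, show ⇑G.subtype ∘ gG = ![fP (transl p), fP (gen 0), Ap] from hgP]
    simp only [List.mem_append, List.mem_map, List.mem_cons, List.not_mem_nil, or_false] at hu
    rcases hu with ⟨r, hr, rfl⟩ | rfl | rfl | rfl
    · have := congrArg fP (hprel r hr)
      rw [lift_map, map_one] at this
      rw [lift_map, ← this]
      exact congrArg (FreeGroup.lift · r) (funext fun i => by fin_cases i <;> simp [ι3, pieceGen])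
    · simp only [A', map_mul, map_inv, map_zpow, FreeGroup.lift_apply_of, hWP, mul_inv_eq_one]
      exact hshP.base
    · simp only [A', map_mul, map_inv, FreeGroup.lift_apply_of, hWP, mul_inv_eq_one]
      exact hshP.cut
    · simp only [A', β', map_mul, map_inv, map_pow, map_zpow, FreeGroup.lift_apply_of, hWP, mul_inv_eq_one]
      exact hvP
  · intro Q _ g' hgen' hrel
    simp only [List.mem_append, or_imp, forall_and, List.forall_mem_cons, List.not_mem_nil,
      IsEmpty.forall_iff, implies_true, and_true] at hrel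
    obtain ⟨hrelR, h1, h2, h3⟩ := hrel
    obtain ⟨f, hf⟩ := huniv Q ![g' 0, g' 1] fun r hr => by
      have := hrelR _ (List.mem_map.2 ⟨r, hr, rfl⟩)
      rw [lift_map] at this
      rwa [show FreeGroup.lift g' ∘ ι3 = ![g' 0, g' 1] from funext fun i => by
        fin_cases i <;> simp [ι3]] at this
    have hL : ∀ c, FreeGroup.lift g' (W c) = f c := fun c => by
      rw [lift_map]
      conv_rhs => rw [← hwd c, lift_map]
      exact congrArg (FreeGroup.lift · (wd c)) (funext fun i => by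
        fin_cases i <;> simp [ι3, hf])
    have hx : f (gen 0) = g' 1 := hf 1
    simp only [A', β', map_mul, map_inv, map_pow, map_zpow, FreeGroup.lift_apply_of, hL,
      mul_inv_eq_one] at h1 h2 h3
    rw [← hx] at h1
    set A := g' 2
    have hsh : Shifts f A ε := ⟨h1, h2, hcsign⟩
    have hper : A ^ m * f (gen 0) * (A ^ m)⁻¹ = f (gen 0) ^ ((ε ^ m : ℤˣ) : ℤ) :=
      hsh.periodic hp h3 hvc
    set x := f (gen 0)
    let Y : ℕ → Q := fun i => (A ^ i * x * (A ^ i)⁻¹) ^ ((ε ^ i : ℤˣ) : ℤ)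
    have hY0 : Y 0 = x := by simp [Y]
    have hYp : ∀ i, i < p → Y i = f (gen (i : ZMod p)) := fun i hi => by
      simp only [Y]
      rw [hsh.iter i (by omega), zpow_unit_zpow]
    have hshift : ∀ j i, A ^ j * Y i * (A ^ j)⁻¹ = Y (i + j) ^ ((ε ^ j : ℤˣ) : ℤ) := by
      intro j i
      simp only [Y]
      rw [← conj_zpow, show A ^ j * (A ^ i * x * (A ^ i)⁻¹) * (A ^ j)⁻¹ =
        (A ^ j * A ^ i) * x * (A ^ j * A ^ i)⁻¹ by group, ← pow_add, add_comm j i, ← zpow_mul,
        ← Units.val_mul, show ε ^ (i + j) * ε ^ j = ε ^ i by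
          rw [pow_add, mul_assoc, Int.units_mul_self, mul_one]]
    have hperY : ∀ i, Y (i + m) = Y i := fun i => by
      simp only [Y]
      rw [show A ^ (i + m) * x * (A ^ (i + m))⁻¹ = A ^ i * (A ^ m * x * (A ^ m)⁻¹) * (A ^ i)⁻¹ by
        rw [pow_add]; group, hper, ← conj_zpow, ← zpow_mul, ← Units.val_mul, pow_add, mul_comm (ε ^ i),
        ← mul_assoc, Int.units_mul_self, one_mul]
    -- the pairs
    have hcyclic : ∀ u w : Q, u * w * (u * w) = 1 → w * u * (w * u) = 1 := fun u w h => by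
      calc w * u * (w * u) = u⁻¹ * (u * w * (u * w)) * u := by group
        _ = 1 := by rw [h, mul_one, inv_mul_cancel]
    have hpair : ∀ i d, 1 ≤ d → d < p → Y i * Y (i + d) * (Y i * Y (i + d)) = 1 := by
      intro i d hd1 hdp
      have hne : (0 : ZMod p) ≠ (d : ZMod p) := fun h => by
        have := congrArg ZMod.val h
        rw [ZMod.val_zero, hcast _ hdp] at this
        omega
      have h0 : Y 0 * Y d * (Y 0 * Y d) = 1 := by
        rw [hY0, hYp d hdp, ← map_mul, ← map_mul, gen_mul_sq hne, map_one]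
      have := conj_sq (A ^ i) h0
      rw [hshift, hshift, zero_add, add_comm d i] at this
      have := sq_zpow_unit (ε ^ i) this
      rwa [zpow_unit_zpow, zpow_unit_zpow] at this
    set H := Subgroup.closure (Set.range fun i : Fin m => Y i) with hH
    have hYH : ∀ i < m, Y i ∈ H := fun i hi => Subgroup.subset_closure ⟨⟨i, hi⟩, rfl⟩
    obtain ⟨hfH, hle⟩ := carmichael_finite (fun i : Fin m => Y i) Finset.univ
      (fun i _ => by
        simp only [Y]
        have hx3 : x * x * x = 1 := by rw [← map_mul, ← map_mul, gen_mul_mul, map_one]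
        rcases Int.units_eq_one_or (ε ^ (i : ℕ)) with he | he <;> rw [he] <;>
          simp only [Units.val_one, Units.val_neg, zpow_one, zpow_neg_one]
        · calc _ = A ^ (i : ℕ) * (x * x * x) * (A ^ (i : ℕ))⁻¹ := by group
            _ = 1 := by rw [hx3, mul_one, mul_inv_cancel]
        · calc _ = A ^ (i : ℕ) * (x * x * x)⁻¹ * (A ^ (i : ℕ))⁻¹ := by group
            _ = 1 := by rw [hx3, inv_one, mul_one, mul_inv_cancel])
      (fun i _ j _ hij => by
        have hij' : (i : ℕ) ≠ j := fun h => hij (Fin.ext h)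
        have key : ∀ i j : Fin m, (i : ℕ) < j → Y i * Y j * (Y i * Y j) = 1 := by
          intro i j hlt
          by_cases hd : (j : ℕ) - i < p
          · have := hpair i ((j : ℕ) - i) (by omega) hd
            rwa [Nat.add_sub_cancel' hlt.le] at this
          · have := hpair j (m + i - j) (by have := j.isLt; omega) (by omega)
            rw [show (j : ℕ) + (m + i - j) = i + m by have := j.isLt; omega, hperY] at this
            exact hcyclic _ _ this
        rcases Nat.lt_or_gt_of_ne hij' with h | h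
        · exact key i j h
        · exact hcyclic _ _ (key j i h))
    rw [Finset.coe_univ, Set.image_univ, ← hH] at hfH hle
    rw [Finset.card_univ, ← two_mul_card_alt] at hle
    have hfin : Finite H := hfH
    -- `H` is normal with cyclic quotient
    have hfcH : ∀ c, f c ∈ H := by
      have : (⊤ : Subgroup (alternatingGroup (Fin 2 ⊕ ZMod p))) ≤ H.comap f := by
        rw [← closure_gen, Subgroup.closure_le]
        rintro _ ⟨u, rfl⟩
        show f (gen u) ∈ H
        rw [← ZMod.natCast_zmod_val u, ← hYp _ u.val_lt]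
        exact hYH _ (lt_of_lt_of_le u.val_lt hpm)
      exact fun c => this (Subgroup.mem_top c)
    have hAn : A ∈ Subgroup.normalizer (H : Set Q) := by
      rw [Subgroup.mem_normalizer_iff]
      have h1 : H ≤ H.comap (MulAut.conj A).toMonoidHom := by
        rw [hH, Subgroup.closure_le]
        rintro _ ⟨i, rfl⟩
        show A * Y i * A⁻¹ ∈ H
        have := hshift 1 i
        rw [pow_one] at this
        rw [this]
        refine H.zpow_mem ?_ _
        by_cases hi : (i : ℕ) + 1 < m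
        · exact hYH _ hi
        · rw [show (i : ℕ) + 1 = 0 + m by have := i.isLt; omega, hperY]
          exact hYH 0 (by omega)
      have h2 : H ≤ H.comap (MulAut.conj A⁻¹).toMonoidHom := by
        rw [hH, Subgroup.closure_le]
        rintro _ ⟨i, rfl⟩
        show A⁻¹ * Y i * A⁻¹⁻¹ ∈ H
        obtain ⟨j, hjm, hji⟩ : ∃ j < m, Y (j + 1) = Y i := by
          rcases Nat.eq_zero_or_pos (i : ℕ) with h | h
          · exact ⟨m - 1, by omega, by rw [show m - 1 + 1 = 0 + m by omega, hperY, h]⟩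
          · exact ⟨(i : ℕ) - 1, by have := i.isLt; omega, by rw [show (i : ℕ) - 1 + 1 = i by omega]⟩
        have h0 := hshift 1 j
        rw [pow_one, hji] at h0
        have : A⁻¹ * Y i * A⁻¹⁻¹ = Y j ^ ((ε ^ 1 : ℤˣ) : ℤ) := by
          rw [← zpow_unit_zpow (Y i) (ε ^ 1), ← h0, ← conj_zpow]
          congr 1
          group
        rw [this]
        exact H.zpow_mem (hYH j hjm) _
      intro h
      refine ⟨fun hh => h1 hh, fun hh => ?_⟩
      have : A⁻¹ * (A * h * A⁻¹) * A⁻¹⁻¹ ∈ H := h2 hh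
      rwa [show A⁻¹ * (A * h * A⁻¹) * A⁻¹⁻¹ = h by group] at this
    have hg'H : ∀ i, g' i ∈ H ∨ g' i = A := by
      intro i
      fin_cases i
      · refine Or.inl ?_
        have := hfcH (pieceGen p 0)
        rw [hf 0] at this
        exact this
      · refine Or.inl ?_
        have := hfcH (pieceGen p 1)
        rw [hf 1] at this
        exact this
      · exact Or.inr rfl
    have hnormal : H.Normal := by
      rw [← Subgroup.normalizer_eq_top_iff, eq_top_iff, ← hgen', Subgroup.closure_le]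
      rintro _ ⟨i, rfl⟩
      rcases hg'H i with h | h
      · exact Subgroup.le_normalizer h
      · rw [h]; exact hAn
    haveI := hnormal
    let q := QuotientGroup.mk' H
    have hqf : ∀ c, q (f c) = 1 := fun c => (QuotientGroup.eq_one_iff _).2 (hfcH c)
    have hqA : q A ^ D = 1 := by
      have := congrArg q h3
      rw [hqf, map_mul, map_pow, map_zpow] at this
      rw [show q ((A ^ (p - 2))⁻¹ * ((f (transl p))⁻¹ * A) * A ^ (p - 2)) = q A by
        simp only [map_mul, map_inv, map_pow, hqf, inv_one, one_mul]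
        group, ← zpow_natCast (q A) m, ← zpow_add, hk, add_sub_cancel, zpow_natCast] at this
      exact this
    have hqtop : Subgroup.zpowers (q A) = ⊤ := by
      rw [eq_top_iff, ← Subgroup.map_top_of_surjective q (QuotientGroup.mk'_surjective H), ← hgen',
        MonoidHom.map_closure, Subgroup.closure_le]
      rintro _ ⟨_, ⟨i, rfl⟩, rfl⟩
      rcases hg'H i with h | h
      · rw [show q (g' i) = 1 from (QuotientGroup.eq_one_iff _).2 h]; exact one_mem _
      · rw [h]; exact Subgroup.mem_zpowers _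
    have hord : orderOf (q A) ≤ D := Nat.le_of_dvd hD (orderOf_dvd_of_pow_eq_one hqA)
    have hfo : IsOfFinOrder (q A) := isOfFinOrder_iff_pow_eq_one.2 ⟨D, hD, hqA⟩
    have hfz : Finite (Subgroup.zpowers (q A)) := Nat.finite_of_card_ne_zero (by
      rw [Nat.card_zpowers]; exact (orderOf_pos_iff.2 hfo).ne')
    have hfq : Finite (Q ⧸ H) := by
      rw [hqtop] at hfz
      exact Finite.of_equiv _ Subgroup.topEquiv.toEquiv
    haveI : Finite Q := Finite.of_equiv _ (Subgroup.groupEquivQuotientProdSubgroup (s := H)).symm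
    refine ⟨inferInstance, ?_⟩
    rw [hcard, Subgroup.card_eq_card_quotient_mul_card_subgroup H,
      ← Nat.card_congr (Subgroup.topEquiv (G := Q ⧸ H)).toEquiv, ← hqtop, Nat.card_zpowers]
    exact Nat.mul_le_mul hord (by omega)

end Model

end Cfsg.Agent.BoundedPres.Short
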