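import Cfsg.Agent.Lib.BoundedPres.AltTwo
import Cfsg.Agent.Lib.BoundedPres.Short.Glue

/-!
# Short presentations of alternating and symmetric groups

Three generators and seven relators for degree at least five; two of them generate. Small
degrees by Carmichael's presentation.
-/

set_option autoImplicit false
set_option linter.style.haveILetI false

namespace Cfsg.Agent.BoundedPres.Short

open Subgroup Equiv Cfsg.Agent.BoundedPres

theorem exists_prime_window (m : ℕ) (hm : 3 ≤ m) : ∃ p, p.Prime ∧ p ≠ 2 ∧ p ≤ m ∧ m + 2 ≤ 2 * p := by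
  obtain ⟨p, hp, hlo, hhi⟩ := Nat.exists_prime_lt_and_le_two_mul ((m + 1) / 2) (by omega)
  refine ⟨p, hp, by omega, ?_, by omega⟩
  rcases hp.eq_two_or_odd with h | h <;> omega

theorem sign_rotA {m : ℕ} (σ : Perm (Fin 2)) :
    Perm.sign (rotA σ m) = Perm.sign σ * Perm.sign (finRotate m) := Perm.sign_sumCongr _ _

theorem closure_range_map {G H : Type*} [Group G] [Group H] {ι : Type*} {g : ι → G}
    (hg : Subgroup.closure (Set.range g) = ⊤) (e : G ≃* H) :
    Subgroup.closure (Set.range fun i => e (g i)) = ⊤ := by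
  have := MonoidHom.map_closure e.toMonoidHom (Set.range g)
  rw [hg, Subgroup.map_top_of_surjective _ e.surjective, ← Set.range_comp] at this
  exact this.symm

theorem alt_big (n : ℕ) (hn : 5 ≤ n) : ∃ g : Fin 3 → alternatingGroup (Fin n),
    Tup g 7 ∧ Subgroup.closure (Set.range (g ∘ Fin.succ)) = ⊤ := by
  obtain ⟨m, rfl⟩ : ∃ m, n = 2 + m := ⟨n - 2, by omega⟩
  obtain ⟨p, hp, hp2, hpm, hmp⟩ := exists_prime_window m (by omega)
  haveI : Fact p.Prime := ⟨hp⟩
  let σ : Perm (Fin 2) := parity (Perm.sign (finRotate m))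
  have hA : Perm.sign (rotA σ m) = 1 := by rw [sign_rotA, sign_parity, Int.units_mul_self]
  obtain ⟨g, hg, hg2⟩ := glue σ p m 1 hp2 hpm hmp one_pos (by rw [hA, one_pow]) _ le_rfl hA
    (one_mul _).symm (fun g hg => ⟨0, by rwa [pow_zero, mul_one]⟩)
  let E : alternatingGroup (Fin 2 ⊕ Fin m) ≃* alternatingGroup (Fin (2 + m)) :=
    Equiv.altCongrHom finSumFinEquiv
  exact ⟨_, hg.map E, closure_range_map hg2 E⟩

theorem sym_big (n : ℕ) (hn : 5 ≤ n) : ∃ g : Fin 3 → Perm (Fin n),
    Tup g 7 ∧ Subgroup.closure (Set.range (g ∘ Fin.succ)) = ⊤ := by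
  obtain ⟨m, rfl⟩ : ∃ m, n = 2 + m := ⟨n - 2, by omega⟩
  obtain ⟨p, hp, hp2, hpm, hmp⟩ := exists_prime_window m (by omega)
  haveI : Fact p.Prime := ⟨hp⟩
  let σ : Perm (Fin 2) := parity (-Perm.sign (finRotate m))
  have hA : Perm.sign (rotA σ m) = -1 := by rw [sign_rotA, sign_parity, neg_mul, Int.units_mul_self]
  haveI : Nontrivial (Fin 2 ⊕ Fin m) := Sum.inl_injective.nontrivial
  obtain ⟨g, hg, hg2⟩ := glue σ p m 2 hp2 hpm hmp two_pos (by rw [hA, Int.units_sq]) ⊤ le_top
    (Subgroup.mem_top _) (by rw [Subgroup.card_top, two_mul_nat_card_alternatingGroup])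
    (fun g _ => by
      rcases Int.units_eq_one_or (Perm.sign g) with h | h
      · exact ⟨0, by rw [pow_zero, mul_one]; exact h⟩
      · exact ⟨1, by rw [pow_one, Perm.mem_alternatingGroup, map_mul, h, hA, Int.units_mul_self]⟩)
  let E : (⊤ : Subgroup (Perm (Fin 2 ⊕ Fin m))) ≃* Perm (Fin (2 + m)) :=
    Subgroup.topEquiv.trans (Equiv.permCongrHom finSumFinEquiv)
  exact ⟨_, hg.map E, closure_range_map hg2 E⟩

theorem pres_subsingleton (G : Type*) [Group G] [Subsingleton G] : Pres G 0 :=
  ⟨0, Fin.elim0, [], le_rfl, Subsingleton.elim _ _, by simp,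
    fun Q _ g' _ => ⟨1, fun i => i.elim0⟩⟩

theorem alt_tiny (m : ℕ) (hm : m ≤ 2) : Pres (alternatingGroup (Fin 2 ⊕ Fin m)) 6 := by
  classical
  let x : Fin m → FreeGroup (Fin m) := FreeGroup.of
  let R : List (FreeGroup (Fin m)) := (List.finRange m).map (fun i => x i * x i * x i) ++
    ((List.finRange m).flatMap fun i => (List.finRange m).map fun j =>
      if i = j then 1 else x i * x j * (x i * x j))
  refine Pres.of_card (g := gen) (R := R) ?_ closure_gen ?_ ?_
  · simp only [R, List.length_append, List.length_map, List.length_finRange, List.length_flatMap,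
      List.map_const', List.sum_replicate, smul_eq_mul]
    nlinarith
  · intro w hw
    simp only [R, List.mem_append, List.mem_map, List.mem_flatMap, List.mem_finRange, true_and] at hw
    rcases hw with ⟨i, rfl⟩ | ⟨i, j, rfl⟩
    · simp [x, gen_mul_mul]
    · split_ifs with h
      · simp
      · simp [x, gen_mul_sq h]
  · intro Q _ g' hgen hrel
    refine finite_of_carmichael g' (fun i => ?_) (fun i j hij => ?_) hgen
    · simpa [x] using hrel (x i * x i * x i) (by simp [R])
    · have := hrel (x i * x j * (x i * x j)) (by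
        simp only [R, List.mem_append, List.mem_flatMap, List.mem_map, List.mem_finRange, true_and]
        exact Or.inr ⟨i, j, by simp [hij]⟩)
      simpa [x] using this

theorem swapAB_conj_cyc {m : ℕ} (v : Fin m) : swapAB * cyc v * swapAB⁻¹ = (cyc v)⁻¹ := by
  rw [swapAB_inv, cyc, ← mul_assoc, swapAB_mul_self, one_mul, _root_.mul_inv_rev, swap_inv, swapAB_inv]

theorem closure_pair_alt {m : ℕ} : Subgroup.closure (Set.range (Option.elim' (swapAB : Perm (Fin 2 ⊕ Fin m)) cyc)) = ⊤ := by
  set H := Subgroup.closure (Set.range (Option.elim' (swapAB : Perm (Fin 2 ⊕ Fin m)) cyc))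
  have h1 : alternatingGroup (Fin 2 ⊕ Fin m) ≤ H := by
    rw [← closure_cyc, Subgroup.closure_le]
    rintro _ ⟨v, rfl⟩
    exact Subgroup.subset_closure ⟨some v, rfl⟩
  have h2 : swapAB ∈ H := Subgroup.subset_closure ⟨none, rfl⟩
  rw [eq_top_iff]
  intro g _
  rcases Int.units_eq_one_or (Perm.sign g) with h | h
  · exact h1 h
  · have hgs : g * swapAB ∈ H := h1 (by rw [Perm.mem_alternatingGroup, map_mul, h, sign_swapAB, Int.units_mul_self])
    have := mul_mem hgs h2
    rwa [mul_assoc, swapAB_mul_self, mul_one] at this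

theorem sym_tiny (m : ℕ) (hm : m ≤ 2) : Pres (Perm (Fin 2 ⊕ Fin m)) 6 := by
  classical
  let gP : Fin (m + 1) → Perm (Fin 2 ⊕ Fin m) := fun i => Option.elim' swapAB cyc (finSuccEquiv m i)
  let s : FreeGroup (Fin (m + 1)) := FreeGroup.of 0
  let x : Fin m → FreeGroup (Fin (m + 1)) := fun i => FreeGroup.of i.succ
  let R : List (FreeGroup (Fin (m + 1))) := (s * s) :: ((List.finRange m).map (fun i => x i * x i * x i) ++
    (List.finRange m).map (fun i => s * x i * s⁻¹ * x i) ++
    (if h : m = 2 then [x ⟨0, by omega⟩ * x ⟨1, by omega⟩ * (x ⟨0, by omega⟩ * x ⟨1, by omega⟩)] else []))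
  have hgen : Subgroup.closure (Set.range gP) = ⊤ := by
    rw [show gP = Option.elim' swapAB cyc ∘ finSuccEquiv m from rfl, Set.range_comp,
      (finSuccEquiv m).surjective.range_eq, Set.image_univ, closure_pair_alt]
  refine Pres.of_card (g := gP) (R := R) ?_ hgen ?_ ?_
  · simp only [R, List.length_cons, List.length_append, List.length_map, List.length_finRange]
    split_ifs with h
    · simp [h]
    · simp; omega
  · intro w hw
    simp only [R, List.mem_cons, List.mem_append, List.mem_map, List.mem_finRange, true_and] at hw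
    rcases hw with rfl | (⟨i, rfl⟩ | ⟨i, rfl⟩) | hw
    · simp [s, gP, swapAB_mul_self]
    · simp only [x, gP, map_mul, FreeGroup.lift_apply_of, finSuccEquiv_succ, Option.elim'_some]
      exact congrArg Subtype.val (gen_mul_mul i)
    · simp only [s, x, gP, map_mul, map_inv, FreeGroup.lift_apply_of, finSuccEquiv_succ, finSuccEquiv_zero,
        Option.elim'_some, Option.elim'_none]
      rw [swapAB_conj_cyc, inv_mul_cancel]
    · split_ifs at hw with h
      · simp only [List.mem_cons, List.not_mem_nil, or_false] at hw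
        subst hw
        simp only [x, gP, map_mul, FreeGroup.lift_apply_of, finSuccEquiv_succ, Option.elim'_some]
        exact congrArg Subtype.val (gen_mul_sq (v := (⟨0, by omega⟩ : Fin m)) (w := ⟨1, by omega⟩) (by simp))
      · simp at hw
  · intro Q _ g' hgen' hrel
    simp only [R, List.mem_cons, List.mem_append, List.mem_map, List.mem_finRange, true_and, or_imp,
      forall_and, forall_eq, forall_exists_index, forall_apply_eq_imp_iff] at hrel
    obtain ⟨hs, ⟨h3, hc⟩, hp⟩ := hrel
    simp only [s, x, map_mul, map_inv, FreeGroup.lift_apply_of] at hs h3 hc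
    set X : Fin m → Q := fun i => g' i.succ
    set S := g' 0
    set H := Subgroup.closure (Set.range X)
    have hcyclic : ∀ u w : Q, u * w * (u * w) = 1 → w * u * (w * u) = 1 := fun u w h => by
      calc w * u * (w * u) = u⁻¹ * (u * w * (u * w)) * u := by group
        _ = 1 := by rw [h, mul_one, inv_mul_cancel]
    have h2 : ∀ i j, i ≠ j → X i * X j * (X i * X j) = 1 := by
      intro i j hij
      have hne : (i : ℕ) ≠ j := fun h => hij (Fin.ext h)
      have hi := i.isLt
      have hj := j.isLt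
      have hm2 : m = 2 := by omega
      have := hp _ (by rw [dif_pos hm2]; exact List.mem_cons_self)
      simp only [x, map_mul, FreeGroup.lift_apply_of] at this
      rcases (by omega : ((i : ℕ) = 0 ∧ (j : ℕ) = 1) ∨ ((i : ℕ) = 1 ∧ (j : ℕ) = 0)) with ⟨a, b⟩ | ⟨a, b⟩
      · rw [show i = ⟨0, by omega⟩ from Fin.ext a, show j = ⟨1, by omega⟩ from Fin.ext b]; exact this
      · rw [show i = ⟨1, by omega⟩ from Fin.ext a, show j = ⟨0, by omega⟩ from Fin.ext b]
        exact hcyclic _ _ this
    obtain ⟨hf, hle⟩ := carmichael_finite X Finset.univ (fun i _ => h3 i) fun i _ j _ => h2 i j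
    rw [Finset.coe_univ, Set.image_univ] at hf hle
    rw [Finset.card_univ, ← two_mul_card_alt] at hle
    change 2 * Nat.card H ≤ _ at hle
    have hSinv : S⁻¹ = S := inv_eq_of_mul_eq_one_left hs
    have hSn : S ∈ Subgroup.normalizer (H : Set Q) := by
      rw [Subgroup.mem_normalizer_iff]
      have h1 : H ≤ H.comap (MulAut.conj S).toMonoidHom := by
        rw [Subgroup.closure_le]
        rintro _ ⟨i, rfl⟩
        show S * X i * S⁻¹ ∈ H
        rw [eq_inv_of_mul_eq_one_left (hc i)]
        exact inv_mem (Subgroup.subset_closure ⟨i, rfl⟩)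
      intro h
      refine ⟨fun hh => h1 hh, fun hh => ?_⟩
      have : S * (S * h * S⁻¹) * S⁻¹ ∈ H := h1 hh
      rwa [hSinv, show S * (S * h * S) * S = (S * S) * h * (S * S) by group, hs, one_mul, mul_one] at this
    have hg'H : ∀ i, g' i ∈ H ∨ g' i = S := by
      intro i
      induction i using Fin.cases with
      | zero => exact Or.inr rfl
      | succ i => exact Or.inl (Subgroup.subset_closure ⟨i, rfl⟩)
    have hnormal : H.Normal := by
      rw [← Subgroup.normalizer_eq_top_iff, eq_top_iff, ← hgen', Subgroup.closure_le]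
      rintro _ ⟨i, rfl⟩
      rcases hg'H i with h | h
      · exact Subgroup.le_normalizer h
      · rw [h]; exact hSn
    haveI := hnormal
    haveI : Finite H := hf
    let q := QuotientGroup.mk' H
    have hqtop : Subgroup.zpowers (q S) = ⊤ := by
      rw [eq_top_iff, ← Subgroup.map_top_of_surjective q (QuotientGroup.mk'_surjective H), ← hgen',
        MonoidHom.map_closure, Subgroup.closure_le]
      rintro _ ⟨_, ⟨i, rfl⟩, rfl⟩
      rcases hg'H i with h | h
      · rw [show q (g' i) = 1 from (QuotientGroup.eq_one_iff _).2 h]; exact one_mem _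
      · rw [h]; exact Subgroup.mem_zpowers _
    have hq2 : q S ^ 2 = 1 := by rw [pow_two, ← map_mul, hs, map_one]
    have hord : orderOf (q S) ≤ 2 := Nat.le_of_dvd two_pos (orderOf_dvd_of_pow_eq_one hq2)
    have hfz : Finite (Subgroup.zpowers (q S)) := Nat.finite_of_card_ne_zero (by
      rw [Nat.card_zpowers]
      exact (orderOf_pos_iff.2 (isOfFinOrder_iff_pow_eq_one.2 ⟨2, two_pos, hq2⟩)).ne')
    have hfq : Finite (Q ⧸ H) := by
      rw [hqtop] at hfz
      exact Finite.of_equiv _ Subgroup.topEquiv.toEquiv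
    haveI : Finite Q := Finite.of_equiv _ (Subgroup.groupEquivQuotientProdSubgroup (s := H)).symm
    refine ⟨inferInstance, ?_⟩
    haveI : Nontrivial (Fin 2 ⊕ Fin m) := Sum.inl_injective.nontrivial
    rw [← two_mul_nat_card_alternatingGroup (α := Fin 2 ⊕ Fin m),
      Subgroup.card_eq_card_quotient_mul_card_subgroup H,
      ← Nat.card_congr (Subgroup.topEquiv (G := Q ⧸ H)).toEquiv, ← hqtop, Nat.card_zpowers]
    exact Nat.mul_le_mul hord (by omega)

theorem exists_two_gen_sym (n : ℕ) :
    ∃ u v : Perm (Fin n), Subgroup.closure ({u, v} : Set (Perm (Fin n))) = ⊤ := by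
  rcases Nat.lt_or_ge n 2 with h | h
  · haveI : Subsingleton (Fin n) := Fin.subsingleton_iff_le_one.2 (by omega)
    exact ⟨1, 1, Subsingleton.elim _ _⟩
  · obtain ⟨k, rfl⟩ : ∃ k, n = k + 2 := ⟨n - 2, by omega⟩
    exact ⟨_, _, Perm.closure_cycle_adjacent_swap isCycle_finRotate support_finRotate 0⟩

theorem alt_small_pres (n : ℕ) (hn : n ≤ 4) : Pres (alternatingGroup (Fin n)) 6 := by
  rcases Nat.lt_or_ge n 2 with h | h
  · haveI : Subsingleton (Fin n) := Fin.subsingleton_iff_le_one.2 (by omega)
    exact (pres_subsingleton _).mono (by omega)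
  · obtain ⟨m, rfl⟩ : ∃ m, n = 2 + m := ⟨n - 2, by omega⟩
    exact (alt_tiny m (by omega)).of_equiv (Equiv.altCongrHom finSumFinEquiv)

theorem sym_small_pres (n : ℕ) (hn : n ≤ 4) : Pres (Perm (Fin n)) 6 := by
  rcases Nat.lt_or_ge n 2 with h | h
  · haveI : Subsingleton (Fin n) := Fin.subsingleton_iff_le_one.2 (by omega)
    exact (pres_subsingleton _).mono (by omega)
  · obtain ⟨m, rfl⟩ : ∃ m, n = 2 + m := ⟨n - 2, by omega⟩
    exact (sym_tiny m (by omega)).of_equiv (Equiv.permCongrHom finSumFinEquiv)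

end Cfsg.Agent.BoundedPres.Short
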